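import Groth.Prelude.Def_ConstGrp
import Groth.Prelude.Def_AlphaP
import Mathlib.RingTheory.Bialgebra.MonoidAlgebra
import Mathlib.RingTheory.Bialgebra.Equiv
import Mathlib.RingTheory.Nilpotent.Lemmas
import Mathlib.Algebra.CharP.Lemmas
import Mathlib.Data.ZMod.Basic

/-!
# The three group schemes of order p are pairwise non-isomorphic in characteristic p
-/

set_option autoImplicit false
set_option linter.style.haveILetI false
universe u v w

open TensorProduct

namespace Groth.Agent.Hopf6

theorem isEmpty_equiv_constGrp {R : Type u} [CommRing R] [Nontrivial R] {G : Type v} [Group G]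
    [Fintype G] [DecidableEq G] (g₀ : G) (hg₀ : g₀ ≠ 1) {B : Type w} [CommRing B] [Bialgebra R B]
    (hB : ∀ b : B, Coalgebra.counit (R := R) b = 0 → IsNilpotent b) :
    IsEmpty (ConstGrp.F R G ≃ₐc[R] B) := by
  refine ⟨fun e => ?_⟩
  have h1 : Coalgebra.counit (R := R) (ConstGrp.e R g₀) = 0 := by
    show ConstGrp.counitAlg R G (ConstGrp.e R g₀) = 0
    rw [ConstGrp.counitAlg_apply, ConstGrp.e_apply_of_ne (Ne.symm hg₀)]
  have h2 : Coalgebra.counit (R := R) (e (ConstGrp.e R g₀)) = 0 := by
    rw [← h1]; exact CoalgHomClass.counit_comp_apply e _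
  have h3 : IsIdempotentElem (e (ConstGrp.e R g₀)) := by
    rw [IsIdempotentElem, ← map_mul, ConstGrp.e_mul_e, if_pos rfl]
  have h4 : e (ConstGrp.e R g₀) = e 0 := by
    rw [map_zero]; exact h3.eq_zero_of_isNilpotent (hB _ h2)
  have h5 := congrArg (fun f : ConstGrp.F R G => f g₀) (e.toEquiv.injective h4)
  exact one_ne_zero (by simpa using h5 : (1 : R) = 0)

variable (p : ℕ) [hp : Fact p.Prime] (R : Type u) [CommRing R] [CharP R p]

theorem isNilpotent_of_counit_alphaP (b : AlphaP.A p R) (hb : Coalgebra.counit (R := R) b = 0) :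
    IsNilpotent b := by
  obtain ⟨f, rfl⟩ := AlphaP.mk_surjective p R b
  have hx : IsNilpotent (AlphaP.x p R) := ⟨p, AlphaP.x_pow p R⟩
  have h : AlphaP.counitAlg p R (AlphaP.mk p R f) = f.eval 0 := by
    rw [← AlphaP.aeval_x, ← Polynomial.aeval_algHom_apply, AlphaP.counitAlg_x, Polynomial.coe_aeval_eq_eval]
  have h0 : f.eval 0 = 0 := h ▸ hb
  obtain ⟨g, rfl⟩ : Polynomial.X ∣ f :=
    Polynomial.X_dvd_iff.2 (by rwa [Polynomial.coeff_zero_eq_eval_zero])
  rw [map_mul]
  exact (Commute.all _ _).isNilpotent_mul_right (by rw [AlphaP.mk_X]; exact hx)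

theorem isNilpotent_of_counit_monoidAlgebra (b : MonoidAlgebra R (Multiplicative (ZMod p)))
    (hb : Coalgebra.counit (R := R) b = 0) : IsNilpotent b := by
  haveI : CharP (MonoidAlgebra R (Multiplicative (ZMod p))) p :=
    charP_of_injective_algebraMap (FaithfulSMul.algebraMap_injective R _) p
  haveI : ExpChar (MonoidAlgebra R (Multiplicative (ZMod p))) p := ExpChar.prime hp.out
  suffices ∀ y : MonoidAlgebra R (Multiplicative (ZMod p)),
      y ^ p = algebraMap R _ ((Coalgebra.counit (R := R) y) ^ p) from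
    ⟨p, by rw [this, hb, zero_pow hp.out.ne_zero, map_zero]⟩
  intro y
  induction y using MonoidAlgebra.induction_linear with
  | zero => simp [zero_pow hp.out.ne_zero]
  | add y z hy hz =>
    haveI : ExpChar R p := ExpChar.prime hp.out
    rw [add_pow_expChar, hy, hz, map_add, add_pow_expChar, map_add]
  | single g a =>
    have hg : g ^ p = 1 := by
      apply Multiplicative.toAdd.injective
      simp [CharP.cast_eq_zero (ZMod p) p]
    rw [MonoidAlgebra.single_pow, hg, MonoidAlgebra.counit_single]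
    simp [MonoidAlgebra.coe_algebraMap]

theorem eq_zero_of_primitive {G : Type v} [Monoid G] [DecidableEq G] (y : MonoidAlgebra R G)
    (hy : Coalgebra.comul (R := R) y = y ⊗ₜ 1 + 1 ⊗ₜ y) : y = 0 := by
  classical
  let b := MonoidAlgebra.basis G R
  refine b.ext_elem fun g => ?_
  let ψ : MonoidAlgebra R G ⊗[R] MonoidAlgebra R G →ₗ[R] R :=
    LinearMap.mul' R R ∘ₗ TensorProduct.map (b.coord g) (b.coord g)
  have hψ : ψ ∘ₗ Coalgebra.comul = b.coord g := b.ext fun h => by
    have : b h = MonoidAlgebra.single h 1 := MonoidAlgebra.basis_apply R h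
    rw [LinearMap.comp_apply, this, MonoidAlgebra.comul_single]
    simp only [CommSemiring.comul_apply, TensorProduct.map_tmul, MonoidAlgebra.lsingle_apply,
      ψ, LinearMap.comp_apply, LinearMap.mul'_apply]
    rw [← this, b.coord_apply, b.repr_self, Finsupp.single_apply]
    split <;> simp
  have h1 := LinearMap.congr_fun hψ y
  rw [LinearMap.comp_apply, hy, map_add] at h1
  simp only [ψ, LinearMap.comp_apply, TensorProduct.map_tmul, LinearMap.mul'_apply] at h1
  have hone : (1 : MonoidAlgebra R G) = b 1 := by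
    rw [MonoidAlgebra.basis_apply]; rfl
  rw [hone, b.coord_apply, b.coord_apply, b.repr_self, Finsupp.single_apply] at h1
  rw [map_zero, Finsupp.zero_apply]
  split at h1
  · simpa using h1
  · simpa using h1.symm

theorem isEmpty_equiv_monoidAlgebra_alphaP :
    IsEmpty (MonoidAlgebra R (Multiplicative (ZMod p)) ≃ₐc[R] AlphaP.A p R) := by
  haveI : Nontrivial R := CharP.nontrivial_of_char_ne_one (R := R) hp.out.ne_one
  refine ⟨fun e => ?_⟩
  have h1 : Coalgebra.comul (R := R) (e.symm (AlphaP.x p R)) =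
      e.symm (AlphaP.x p R) ⊗ₜ 1 + 1 ⊗ₜ e.symm (AlphaP.x p R) := by
    rw [← CoalgHomClass.map_comp_comul_apply, AlphaP.comul_x]
    simp
  have h2 := congrArg e (eq_zero_of_primitive R _ h1)
  rw [map_zero, BialgEquiv.apply_symm_apply] at h2
  have h3 := (AlphaP.basis p R).ne_zero ⟨1, hp.out.one_lt⟩
  rw [AlphaP.basis_apply] at h3
  exact h3 (by simpa using h2)

end Groth.Agent.Hopf6
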